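import Groth.Agent.Lib.ModR1_32.Seq
import Groth.Agent.Lib.RegExt.Image

/-!
# `R¹ g_* O` between modifications of a surface germ
-/

set_option autoImplicit false
set_option linter.style.haveILetI false
set_option linter.unusedSectionVars false
set_option backward.isDefEq.respectTransparency false
set_option maxHeartbeats 1000000

universe u

open CategoryTheory CategoryTheory.Limits AlgebraicGeometry TopologicalSpace Opposite

noncomputable section

namespace Groth.Agent.ModR1

open CohFound DivDesc12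

theorem dim_le_zero_of_discrete {X : Scheme.{u}} (h : ∀ a b : X, a ⤳ b → a = b) : topologicalKrullDim X ≤ 0 := by
  refine iSup_le fun s => ?_
  rcases le_or_gt s.length 0 with hs | hs
  · exact_mod_cast hs
  exfalso
  have hi := (s ⟨0, by omega⟩).isIrreducible'.isGenericPoint_genericPoint (s ⟨0, by omega⟩).isClosed'
  have hj := (s ⟨1, by omega⟩).isIrreducible'.isGenericPoint_genericPoint (s ⟨1, by omega⟩).isClosed'
  have hlt := s.strictMono (show (⟨0, by omega⟩ : Fin (s.length + 1)) < ⟨1, by omega⟩ by simp [Fin.lt_def])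
  refine hlt.ne (IrreducibleCloseds.ext (hi.def.symm.trans ?_))
  rw [← h _ _ (hj.specializes (hlt.le hi.mem))]
  exact hj.def

variable {X Y : Scheme.{u}} [IsIntegral X] [IsNoetherian X] [IsIntegral Y] (g : Y ⟶ X) [IsProper g]
  {V : X.Opens} (hV : (V : Set X).Nonempty) [IsIso (g ∣_ V)]
  (hdimX : ∀ x : X, ringKrullDim (X.presheaf.stalk x) ≤ 2) (hηX : ¬ IsClosed ({genericPoint X} : Set X))

/-- The points with a contracted curve. -/
def bad : Set X := {x | IsClosed ({x} : Set X) ∧ ∃ γ : Y, g γ = x ∧ ¬ IsClosed ({γ} : Set Y)}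

include hV hdimX hηX in
theorem finite_bad : (bad g).Finite := by
  haveI : IsLocallyNoetherian Y := LocallyOfFiniteType.isLocallyNoetherian g
  haveI : CompactSpace Y := QuasiCompact.compactSpace_of_compactSpace g
  haveI : IsNoetherian Y := {}
  let W : Set Y := {γ | ¬ IsClosed ({γ} : Set Y) ∧ IsClosed ({g γ} : Set X)}
  suffices hW : W.Finite by
    refine (hW.image g).subset ?_
    rintro x ⟨hx, γ, rfl, hγ⟩
    exact ⟨γ, ⟨hγ, hx⟩, rfl⟩
  have hgen := NormBlow.map_generic g hV
  have hdim1 : ∀ γ : Y, ¬ IsClosed ({γ} : Set Y) → ringKrullDim (Y.presheaf.stalk γ) ≤ 1 := fun γ hγ => by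
    obtain ⟨c, hc, hcc⟩ := (isClosed_closure (s := ({γ} : Set Y))).exists_closed_singleton ⟨γ, subset_closure rfl⟩
    exact NormBlow.le_one_of_lt_of_le_two (ringKrullDim_stalk_lt (specializes_iff_mem_closure.2 hc)
      fun e => hγ (e ▸ hcc)) (NormBlow.dim_closed_le g hV hcc hdimX)
  have hQ : IsClosed {γ : Y | g γ ∉ V} := V.isOpen.isClosed_compl.preimage g.continuous
  obtain ⟨S, hS, hS1, hS2, hSeq⟩ := NoetherianSpace.exists_finite_set_isClosed_irreducible hQ
  haveI : Finite S := hS
  refine (Set.finite_range fun T : S => (hS2 T.1 T.2).genericPoint).subset fun γ hγ => ?_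
  have hγQ : g γ ∉ V := fun h => hγ.1 (by
    have : g ⁻¹' {g γ} = {γ} := Set.Subset.antisymm
      (fun a ha => PointBlowUp.eq_of_restrict g V (by rw [show g a = g γ from ha]; exact h) ha)
      (Set.singleton_subset_iff.2 rfl)
    rw [← this]
    exact hγ.2.preimage g.continuous)
  obtain ⟨T, hT, hγT⟩ := Set.mem_sUnion.1 (hSeq ▸ hγQ : γ ∈ ⋃₀ S)
  refine ⟨⟨T, hT⟩, ?_⟩
  have hg := (hS2 T hT).isGenericPoint_genericPoint (hS1 T hT)
  have hmem : (hS2 T hT).genericPoint ∈ {γ : Y | g γ ∉ V} := hSeq ▸ Set.mem_sUnion_of_mem hg.mem hT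
  by_contra hne
  have hne2 : genericPoint Y ≠ (hS2 T hT).genericPoint := fun e => hmem (by
    rw [← e, hgen]; exact CurveBlowUp.generic_mem hV)
  exact NormBlow.false_of_chain ringKrullDim_nonneg_of_nontrivial
    (ringKrullDim_stalk_lt (genericPoint_specializes _) hne2) (ringKrullDim_stalk_lt (hg.specializes hγT) hne)
    (hdim1 γ hγ.1)

include hV hdimX in
theorem dim_fiber_zero {x : X} (hx : x ∉ bad g) : topologicalKrullDim ↥(g.fiber x) ≤ 0 := by
  haveI : IsLocallyNoetherian Y := LocallyOfFiniteType.isLocallyNoetherian g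
  haveI : CompactSpace Y := QuasiCompact.compactSpace_of_compactSpace g
  refine dim_le_zero_of_discrete fun a b hab => ?_
  by_contra hne
  let ι := g.fiberι x
  have hw : ∀ p, g (ι p) = x := fun p => by
    have : ι p ∈ Set.range ι := ⟨p, rfl⟩
    rw [Scheme.Hom.range_fiberι] at this
    exact this
  have hne' : ι a ≠ ι b := fun h => hne (ι.isEmbedding.injective h)
  by_cases hη : ι a = genericPoint Y
  · refine hne' (hη.trans (NormBlow.eq_generic g hV ((hw b).trans ?_)).symm)
    rw [← hw a, hη, NormBlow.map_generic g hV]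
  have hsp : ι a ⤳ ι b := hab.map ι.continuous
  by_cases hb : IsClosed ({ι b} : Set Y)
  · refine hx ⟨?_, ι a, hw a, fun hc => hne' (Set.mem_singleton_iff.1 (hsp.mem_closed hc rfl)).symm⟩
    have := g.isClosedMap _ hb
    rwa [Set.image_singleton, hw] at this
  · obtain ⟨c, hc, hcc⟩ := (isClosed_closure (s := ({ι b} : Set Y))).exists_closed_singleton ⟨ι b, subset_closure rfl⟩
    exact NormBlow.false_of_chain ringKrullDim_nonneg_of_nontrivial
      (ringKrullDim_stalk_lt (genericPoint_specializes (ι a)) (Ne.symm hη)) (ringKrullDim_stalk_lt hsp hne')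
      (NormBlow.le_one_of_lt_of_le_two (ringKrullDim_stalk_lt (specializes_iff_mem_closure.2 hc) fun e => hb (e ▸ hcc))
        (NormBlow.dim_closed_le g hV hcc hdimX))

include hV hdimX in
/-- The stalks of `coker (g_* I → g_* Q)` vanish away from the bad points. -/
theorem subsingleton_stalk {S : ShortComplex Y.Modules} (hS : S.ShortExact) (h₁ : Coh.IsQCoh S.X₁)
    {x : X} (hx : x ∉ bad g) :
    Subsingleton ↑((cokernel ((Scheme.Modules.pushforward g).map S.g)).presheaf.stalk x) := by
  let P := Scheme.Modules.pushforward g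
  let R := cokernel (P.map S.g)
  let π := cokernel.π (P.map S.g)
  obtain ⟨W, hxW, hW, hd⟩ := VanFib13.exists_affine_nhd g x 0 (by exact_mod_cast dim_fiber_zero g hV hdimX hx)
  refine subsingleton_of_forall_eq 0 fun r => ?_
  obtain ⟨q, rfl⟩ := (M1.epi_iff_stalk π).1 inferInstance x r
  obtain ⟨U, hxU, s, rfl⟩ := (P.obj S.X₃).presheaf.exists_germ_eq q
  obtain ⟨W', hW', hxW', hle⟩ := exists_isAffineOpen_mem_and_subset (X := X) (x := x) (U := W ⊓ U) ⟨hxW, hxU⟩
  have hvan : Subsingleton (Hc ((abF Y).obj S.X₁) 1 (g ⁻¹ᵁ W')) :=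
    VanFib13.subsingleton_hc_affine g hW' 0 (fun w hw => hd w (hle hw).1) h₁ zero_lt_one
  let s' : Γ(P.obj S.X₃, W') := (P.obj S.X₃).presheaf.map (homOfLE fun w hw => (hle hw).2).op s
  obtain ⟨i, hi⟩ := app_surjective_of_subsingleton (shortExact_abF hS) (g ⁻¹ᵁ W') hvan s'
  have e : (P.obj S.X₃).presheaf.germ U x hxU s = (P.obj S.X₃).presheaf.germ W' x hxW' ((P.map S.g).app W' i) := by
    rw [show (P.map S.g).app W' i = s' from hi]
    exact (TopCat.Presheaf.germ_res_apply _ _ _ hxW' s).symm
  rw [M1.germ_naturality, ← M1.germ_naturality π U x hxU s, e, M1.germ_naturality]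
  have hz : π.app W' ((P.map S.g).app W' i) = 0 := by
    have h0 := congrArg (fun φ : P.obj S.X₂ ⟶ R => φ.app W' i) (cokernel.condition (P.map S.g))
    exact h0
  rw [hz, map_zero]

omit [IsIntegral X] [AlgebraicGeometry.IsNoetherian X] [IsIntegral Y] [IsProper g] in
/-- A module with finitely many closed support points is globally generated. -/
theorem isGloballyGenerated_of_finite_support (R : X.Modules) (T : Set X) (hT : T.Finite)
    (hTc : ∀ x ∈ T, IsClosed ({x} : Set X)) (h : ∀ x ∉ T, Subsingleton ↑(R.presheaf.stalk x)) :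
    Curv2.IsGloballyGenerated R := by
  refine RA.isGloballyGenerated_of_span R fun x => top_le_iff.mp fun a _ => Submodule.subset_span ?_
  by_cases hx : x ∈ T
  swap
  · haveI := h x hx
    exact ⟨0, Subsingleton.elim _ _⟩
  obtain ⟨U, hxU, s, rfl⟩ := R.presheaf.exists_germ_eq a
  have hC : IsClosed (T \ {x}) := by
    rw [← Set.biUnion_of_singleton (T \ {x})]
    exact (hT.subset Set.sdiff_subset).isClosed_biUnion fun y hy => hTc y hy.1
  let U' : X.Opens := U ⊓ ⟨(T \ {x})ᶜ, hC.isOpen_compl⟩
  let O : X.Opens := ⟨{x}ᶜ, (hTc x hx).isOpen_compl⟩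
  have hcov : (⊤ : X.Opens) ≤ iSup (fun b : ULift.{u} Bool => if b.down then U' else O) := fun w _ => by
    rw [Opens.mem_iSup]
    by_cases hw : w = x
    · subst hw
      exact ⟨⟨true⟩, hxU, fun hh => hh.2 rfl⟩
    · exact ⟨⟨false⟩, hw⟩
  have hker : R.presheaf.map (homOfLE (inf_le_left.trans inf_le_left : U' ⊓ O ≤ U)).op s = 0 :=
    M1.section_ext _ _ fun w hw => by
      haveI : Subsingleton ↑(R.presheaf.stalk w) := h w fun hwT => hw.1.2 ⟨hwT, hw.2⟩
      exact Subsingleton.elim _ _
  obtain ⟨t, ht, -⟩ := TopCat.Sheaf.existsUnique_gluing' (F := ⟨R.presheaf, R.isSheaf⟩)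
    (fun b : Bool => if b then U' else O) ⊤ (fun b => homOfLE le_top) (fun w _ => by
      rw [Opens.mem_iSup]
      by_cases hw : w = x
      · subst hw
        exact ⟨true, hxU, fun hh => hh.2 rfl⟩
      · exact ⟨false, hw⟩)
    (fun b => match b with
      | true => R.presheaf.map (homOfLE (inf_le_left : U' ≤ U)).op s
      | false => 0)
    (fun b b' => by
      cases b <;> cases b'
      · rfl
      · show R.presheaf.map _ (0 : R.presheaf.obj (op O)) = R.presheaf.map _ (R.presheaf.map _ s)
        rw [map_zero, ← CategoryTheory.Functor.map_comp_apply]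
        exact (M1.section_ext _ _ fun w hw => by
          haveI : Subsingleton ↑(R.presheaf.stalk w) := h w fun hwT => hw.2.2 ⟨hwT, hw.1⟩
          exact Subsingleton.elim _ _)
      · show R.presheaf.map _ (R.presheaf.map _ s) = R.presheaf.map _ (0 : R.presheaf.obj (op O))
        rw [map_zero, ← CategoryTheory.Functor.map_comp_apply]
        exact (M1.section_ext _ _ fun w hw => by
          haveI : Subsingleton ↑(R.presheaf.stalk w) := h w fun hwT => hw.1.2 ⟨hwT, hw.2⟩
          exact Subsingleton.elim _ _)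
      · rfl)
  refine ⟨t, ?_⟩
  have hxU' : x ∈ U' := ⟨hxU, fun hh => hh.2 rfl⟩
  show R.presheaf.germ ⊤ x trivial t = R.presheaf.germ U x hxU s
  have h1 := ht true
  rw [← TopCat.Presheaf.germ_res_apply R.presheaf (homOfLE (le_top : U' ≤ ⊤)) x hxU' t,
    ← TopCat.Presheaf.germ_res_apply R.presheaf (homOfLE (inf_le_left : U' ≤ U)) x hxU' s]
  exact congrArg _ h1

end Groth.Agent.ModR1
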