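import Groth.Agent.Lib.RegRat32.Fibres
import Groth.Agent.Lib.CurveCoh17.LES
import Groth.Agent.Lib.CohFound.PushFin
import Groth.Agent.Lib.CohFound.ModFlasque
import Groth.Agent.Lib.CohFound.ModulesInst
import Groth.Agent.Lib.FormalModH7.AffPush
import Groth.Agent.Lib.Twist.Triv
import Groth.Agent.Lib.RelAmple18.Generation
import Groth.Agent.Lib.ModM1.Exact
import Groth.Prelude.Def_ClSub2
import Mathlib

/-!
# `H¹` along a morphism of modifications: the five term sequence
-/

set_option autoImplicit false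
set_option linter.style.haveILetI false
set_option linter.unusedSectionVars false
set_option backward.isDefEq.respectTransparency false
set_option maxHeartbeats 1000000

universe u

open CategoryTheory CategoryTheory.Limits AlgebraicGeometry TopologicalSpace Opposite

noncomputable section

namespace Groth.Agent.ModR1

open CohFound CurveCoh17

variable {X Y : Scheme.{u}} (g : Y ⟶ X)

/-- Global sections of a direct image. -/
def pushH0 (M : Y.Modules) : Coh.HH X ((Scheme.Modules.pushforward g).obj M) 0 ≃+ Coh.HH Y M 0 :=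
  (((hhExt ((Scheme.Modules.pushforward g).obj M) 0).trans
    (hc0 ((abF X).obj ((Scheme.Modules.pushforward g).obj M)) ⊤)).trans
      (hc0 ((abF Y).obj M) ⊤).symm).trans (hhExt M 0).symm

theorem sec_pushH0 (M : Y.Modules) (x : Coh.HH X ((Scheme.Modules.pushforward g).obj M) 0) :
    hc0 ((abF Y).obj M) ⊤ (hhExt M 0 (pushH0 g M x)) =
      hc0 ((abF X).obj ((Scheme.Modules.pushforward g).obj M)) ⊤ (hhExt _ 0 x) := by
  show hc0 ((abF Y).obj M) ⊤ (hhExt M 0 ((hhExt M 0).symm ((hc0 ((abF Y).obj M) ⊤).symm _))) = _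
  rw [AddEquiv.apply_symm_apply, AddEquiv.apply_symm_apply]
  rfl

variable (A : Type u) [CommRing A] [X.Over (Spec (CommRingCat.of A))] [Y.Over (Spec (CommRingCat.of A))]
  (hg : g ≫ (X ↘ Spec (CommRingCat.of A)) = Y ↘ Spec (CommRingCat.of A))

/-- Global sections of a direct image, linearly. -/
def pushH0' (M : Y.Modules) : Coh.HH X ((Scheme.Modules.pushforward g).obj M) 0 ≃ₗ[A] Coh.HH Y M 0 :=
  { pushH0 g M with
    map_smul' := fun a x => by
      apply (hhExt M 0).injective
      apply (hc0 ((abF Y).obj M) ⊤).injective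
      show hc0 ((abF Y).obj M) ⊤ (hhExt M 0 (pushH0 g M (a • x))) =
        hc0 ((abF Y).obj M) ⊤ (hhExt M 0 (Coh.toGlobal (Y ↘ Spec (CommRingCat.of A)) a • pushH0 g M x))
      rw [sec_pushH0, hhExt_smul, hc0_mp, sec_pushH0,
        show a • x = Coh.toGlobal (X ↘ Spec (CommRingCat.of A)) a • x from rfl, hhExt_smul, hc0_mp]
      generalize hc0 ((abF X).obj ((Scheme.Modules.pushforward g).obj M)) ⊤ (hhExt _ 0 x) = t
      have e : Coh.toGlobal (Y ↘ Spec (CommRingCat.of A)) a = g.appTop (Coh.toGlobal (X ↘ Spec (CommRingCat.of A)) a) := by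
        rw [← hg, Coh.toGlobal, Coh.toGlobal, Scheme.Hom.comp_appTop]
        rfl
      rw [e]
      exact ConcreteCategory.congr_hom (congr_app (congrArg (fun φ => φ.hom)
        (abFPushIso_gEnd g M (Coh.toGlobal (X ↘ Spec (CommRingCat.of A)) a))) (op ⊤)) t }

theorem pushH0_hmap {M N : Y.Modules} (φ : M ⟶ N) (x : Coh.HH X ((Scheme.Modules.pushforward g).obj M) 0) :
    pushH0' g A hg N (hmap A ((Scheme.Modules.pushforward g).map φ) 0 x) = hmap A φ 0 (pushH0' g A hg M x) := by
  apply (hhExt N 0).injective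
  apply (hc0 ((abF Y).obj N) ⊤).injective
  show hc0 _ ⊤ (hhExt N 0 (pushH0 g N _)) = hc0 _ ⊤ (hhExt N 0 (hmap A φ 0 (pushH0 g M x)))
  rw [sec_pushH0, hhExt_hmap, hhExt_hmap, hc0_mp, hc0_mp, sec_pushH0]
  rfl

include hg in
/-- The five term sequence, in lengths. -/
theorem length_eq {M : Y.Modules} {S : ShortComplex Y.Modules} (hS : S.ShortExact) (hM : S.X₁ = M)
    (hI : Injective S.X₂)
    (hH2 : Subsingleton (Coh.HH X ((Scheme.Modules.pushforward g).obj S.X₁) 2)) :
    Module.length A (Coh.HH Y M 1) =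
      Module.length A (Coh.HH X ((Scheme.Modules.pushforward g).obj M) 1) +
        Module.length A (Coh.HH X (cokernel ((Scheme.Modules.pushforward g).map S.g)) 0) := by
  subst hM
  let P := Scheme.Modules.pushforward g
  haveI := hS.mono_f
  let G := cokernel (P.map S.f)
  let π := cokernel.π (P.map S.f)
  let φ : G ⟶ P.obj S.X₃ := cokernel.desc (P.map S.f) (P.map S.g) (by rw [← P.map_comp, S.zero, P.map_zero])
  have hπφ : π ≫ φ = P.map S.g := cokernel.π_desc _ _ _
  haveI hφ : Mono φ := by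
    haveI : PreservesLimitsOfSize.{0, 0} P :=
      (Scheme.Modules.pullbackPushforwardAdjunction g).rightAdjoint_preservesLimits
    haveI : P.PreservesMonomorphisms := inferInstance
    have hex : (S.map P).Exact := (hS.exact.map_of_mono_of_preservesKernel P inferInstance inferInstance)
    exact hex.mono_cokernelDesc
  haveI : Mono (P.map S.f) := by
    haveI : PreservesLimitsOfSize.{0, 0} P :=
      (Scheme.Modules.pullbackPushforwardAdjunction g).rightAdjoint_preservesLimits
    infer_instance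
  let T : ShortComplex X.Modules := ShortComplex.mk (P.map S.f) π (cokernel.condition _)
  have hT : T.ShortExact :=
    { exact := ShortComplex.exact_of_g_is_cokernel _ (cokernelIsCokernel _)
      mono_f := inferInstanceAs (Mono (P.map S.f))
      epi_g := inferInstanceAs (Epi (cokernel.π (P.map S.f))) }
  have hzero : φ ≫ cokernel.π (P.map S.g) = 0 := by
    rw [← cancel_epi π, ← Category.assoc, hπφ, cokernel.condition, comp_zero]
  let U : ShortComplex X.Modules := ShortComplex.mk φ (cokernel.π (P.map S.g)) hzero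
  have hU : U.ShortExact :=
    { exact := by
        refine ShortComplex.exact_of_g_is_cokernel _ (CokernelCofork.IsColimit.ofπ _ hzero
          (fun k hk => cokernel.desc _ k (by rw [← hπφ, Category.assoc, hk, comp_zero]))
          (fun k hk => cokernel.π_desc _ _ _)
          fun k hk m hm => by rw [← cancel_epi (cokernel.π (P.map S.g)), hm, cokernel.π_desc])
      mono_f := hφ
      epi_g := inferInstanceAs (Epi (cokernel.π (P.map S.g))) }
  -- vanishing
  haveI := hI
  haveI hfl : TopCat.Sheaf.IsFlasque ((abF Y).obj S.X₂) := isFlasque_abF_injective (hI := hI) S.X₂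
  haveI hflp : TopCat.Sheaf.IsFlasque ((abF X).obj (P.obj S.X₂)) := by
    haveI : TopCat.Sheaf.IsFlasque ((CohTop.push (g.base : sp Y ⟶ sp X)).obj ((abF Y).obj S.X₂)) :=
      TopCat.Sheaf.IsFlasque.pushforward_isFlasque _ _
    refine isFlasque_mk _ fun U V h s => ?_
    exact flasque_surjective ((CohTop.push (g.base : sp Y ⟶ sp X)).obj ((abF Y).obj S.X₂)) h s
  haveI hY1 : Subsingleton (Coh.HH Y S.X₂ 1) :=
    (subsingleton_HH_iff _ 1).2 (subsingleton_hc_of_isFlasque _ 0 ⊤)
  haveI hX1 : Subsingleton (Coh.HH X T.X₂ 1) :=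
    (subsingleton_HH_iff _ 1).2 (subsingleton_hc_of_isFlasque _ 0 ⊤)
  haveI := hH2
  haveI hG1 : Subsingleton (Coh.HH X G 1) := by
    refine subsingleton_of_forall_eq 0 fun x => ?_
    obtain ⟨y, hy⟩ := (exact_hmap_hdelta A hT 1 x).1 (@Subsingleton.elim _ hH2 _ _)
    rw [← hy, @Subsingleton.elim _ hX1 y 0, map_zero]
  -- the maps
  let e₂ := pushH0' g A hg S.X₂
  let e₃ := pushH0' g A hg S.X₃
  let α : Coh.HH X G 0 →ₗ[A] Coh.HH X (P.obj S.X₁) 1 := hdelta A hT 0
  let β : Coh.HH X (P.obj S.X₃) 0 →ₗ[A] Coh.HH Y S.X₁ 1 := (hdelta A hS 0).comp e₃.toLinearMap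
  have hα : Function.Surjective α := fun x =>
    (exact_hdelta_hmap A hT 0 x).1 (@Subsingleton.elim _ hX1 _ _)
  have hβ : Function.Surjective β := fun x => by
    obtain ⟨y, hy⟩ := (exact_hdelta_hmap A hS 0 x).1 (@Subsingleton.elim _ hY1 _ _)
    exact ⟨e₃.symm y, by show hdelta A hS 0 (e₃ (e₃.symm y)) = x; rw [LinearEquiv.apply_symm_apply, hy]⟩
  have hker : ∀ b, β b = 0 ↔ ∃ i, hmap A (P.map S.g) 0 i = b := fun b => by
    refine ⟨fun h => ?_, ?_⟩
    · obtain ⟨i, hi⟩ := (exact_hmap_hdelta A hS 0 (e₃ b)).1 h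
      refine ⟨e₂.symm i, e₃.injective ?_⟩
      rw [pushH0_hmap g A hg S.g, LinearEquiv.apply_symm_apply, hi]
    · rintro ⟨i, rfl⟩
      show hdelta A hS 0 (e₃ (hmap A (P.map S.g) 0 i)) = 0
      rw [pushH0_hmap g A hg S.g]
      exact (exact_hmap_hdelta A hS 0 _).2 ⟨_, rfl⟩
  let φ₀ := hmap A φ 0
  have hφπ : ∀ i, φ₀ (hmap A π 0 i) = hmap A (P.map S.g) 0 i := fun i => by
    show hmap A φ 0 (hmap A π 0 i) = _
    rw [← hmap_comp, hπφ]
  have hkerα : LinearMap.ker α ≤ LinearMap.ker (β.comp φ₀) := fun y hy => by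
    obtain ⟨i, hi⟩ := (exact_hmap_hdelta A hT 0 y).1 hy
    rw [LinearMap.mem_ker]
    exact (hker _).2 ⟨i, by rw [← hi]; exact (hφπ i).symm⟩
  let ψ : Coh.HH X (P.obj S.X₁) 1 →ₗ[A] Coh.HH Y S.X₁ 1 :=
    ((LinearMap.ker α).liftQ (β.comp φ₀) hkerα).comp (α.quotKerEquivOfSurjective hα).symm.toLinearMap
  have hψ : ∀ y, ψ (α y) = β (φ₀ y) := fun y => by
    show (LinearMap.ker α).liftQ _ hkerα ((α.quotKerEquivOfSurjective hα).symm (α y)) = _
    rw [show (α.quotKerEquivOfSurjective hα).symm (α y) = Submodule.Quotient.mk y from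
      (α.quotKerEquivOfSurjective hα).symm_apply_eq.2 rfl]
    rfl
  let π₀ : Coh.HH X (P.obj S.X₃) 0 →ₗ[A] Coh.HH X U.X₃ 0 := hmap A (cokernel.π (P.map S.g)) 0
  have hkerβ : LinearMap.ker β ≤ LinearMap.ker π₀ := fun b hb => by
    obtain ⟨i, rfl⟩ := (hker b).1 hb
    rw [LinearMap.mem_ker]
    show hmap A (cokernel.π (P.map S.g)) 0 (hmap A (P.map S.g) 0 i) = 0
    rw [← hmap_comp, cokernel.condition, hmap_zero]
  let χ : Coh.HH Y S.X₁ 1 →ₗ[A] Coh.HH X U.X₃ 0 :=
    ((LinearMap.ker β).liftQ π₀ hkerβ).comp (β.quotKerEquivOfSurjective hβ).symm.toLinearMap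
  have hχ : ∀ b, χ (β b) = π₀ b := fun b => by
    show (LinearMap.ker β).liftQ _ hkerβ ((β.quotKerEquivOfSurjective hβ).symm (β b)) = _
    rw [show (β.quotKerEquivOfSurjective hβ).symm (β b) = Submodule.Quotient.mk b from
      (β.quotKerEquivOfSurjective hβ).symm_apply_eq.2 rfl]
    rfl
  refine Module.length_eq_add_of_exact ψ χ ?_ ?_ ?_
  · refine (injective_iff_map_eq_zero ψ).2 fun x hx => ?_
    obtain ⟨y, rfl⟩ := hα x
    rw [hψ] at hx
    obtain ⟨i, hi⟩ := (hker _).1 hx
    have hy : hmap A π 0 i = y := hmap_f_injective A hU (by rw [← hi]; exact hφπ i)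
    exact (exact_hmap_hdelta A hT 0 y).2 ⟨i, hy⟩
  · intro r
    obtain ⟨b, hb⟩ := (exact_hmap_hdelta A hU 0 r).1 (@Subsingleton.elim _ hG1 _ _)
    exact ⟨β b, (hχ b).trans hb⟩
  · intro x
    constructor
    · intro hx
      obtain ⟨b, rfl⟩ := hβ x
      rw [hχ] at hx
      obtain ⟨y, hy⟩ := (exact_hmap_hmap A hU 0 b).1 hx
      exact ⟨α y, by rw [hψ]; exact congrArg β hy⟩
    · rintro ⟨z, rfl⟩
      obtain ⟨y, rfl⟩ := hα z
      rw [hψ, hχ]
      exact (exact_hmap_hmap A hU 0 _).2 ⟨y, rfl⟩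

end Groth.Agent.ModR1
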